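import Mathlib

/-! # Locally integral schemes from domain stalks and locally noetherian space -/

open CategoryTheory AlgebraicGeometry TopologicalSpace

universe u

namespace GrothLib.LocIntegral

/-- In a reduced ring with finitely many minimal primes, a prime at which the localization is a
domain has a basic neighbourhood which is a domain. -/
theorem exists_away_isDomain {B : Type u} [CommRing B] [IsReduced B] (hfin : (minimalPrimes B).Finite)
    (p : Ideal B) [p.IsPrime] [IsDomain (Localization.AtPrime p)] :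
    ∃ f : B, f ∉ p ∧ IsDomain (Localization.Away f) := by
  classical
  set q0 := RingHom.ker (algebraMap B (Localization.AtPrime p)) with hq0
  haveI : q0.IsPrime := RingHom.ker_isPrime _
  have hle : ∀ P : Ideal B, P.IsPrime → P ≤ p → q0 ≤ P := by
    intro P hP hPp x hx
    obtain ⟨s, hs⟩ := (IsLocalization.map_eq_zero_iff p.primeCompl (Localization.AtPrime p) x).mp hx
    exact (hP.mem_or_mem (hs ▸ P.zero_mem : (s : B) * x ∈ P)).resolve_left fun h => s.2 (hPp h)
  have hq0p : q0 ≤ p := hle p inferInstance le_rfl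
  have key : ∀ q ∈ minimalPrimes B, q ≠ q0 → ∃ x ∈ q, x ∉ p := by
    intro q hq hne
    refine Set.not_subset.mp fun h => hne ?_
    exact le_antisymm (hq.2 ⟨inferInstance, bot_le⟩ (hle q hq.1.1 h)) (hle q hq.1.1 h)
  choose! g hg1 hg2 using key
  let T := hfin.toFinset.erase q0
  let f := ∏ q ∈ T, g q
  have hfp : f ∉ p := by
    intro h
    obtain ⟨q, hq, hgq⟩ := (Ideal.IsPrime.prod_mem_iff (p := p)).mp h
    obtain ⟨h1, h2⟩ := Finset.mem_erase.mp hq
    exact hg2 q (hfin.mem_toFinset.mp h2) h1 hgq
  have hfle : ∀ P : Ideal B, P.IsPrime → f ∉ P → q0 ≤ P := by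
    intro P hP hfP
    obtain ⟨q, hq, hqP⟩ := Ideal.exists_minimalPrimes_le (bot_le : (⊥ : Ideal B) ≤ P)
    by_cases h : q = q0
    · exact h ▸ hqP
    refine absurd (hqP ?_) hfP
    exact Ideal.prod_mem q (show q ∈ T from Finset.mem_erase.mpr ⟨h, hfin.mem_toFinset.mpr hq⟩)
      (hg1 q hq h)
  have hfq0 : Disjoint (Submonoid.powers f : Set B) (q0 : Set B) := by
    exact Set.disjoint_left.mpr fun x ⟨n, hn⟩ hx =>
      hfp (hq0p (‹q0.IsPrime›.mem_of_pow_mem n (show f ^ n ∈ q0 by rw [show f ^ n = x from hn]; exact hx)))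
  set A := Localization.Away f
  haveI : IsReduced A := inferInstance
  haveI hprime : (q0.map (algebraMap B A)).IsPrime :=
    IsLocalization.isPrime_of_isPrime_disjoint (Submonoid.powers f) A q0 inferInstance hfq0
  have hbot : q0.map (algebraMap B A) = ⊥ := by
    rw [← le_bot_iff, ← Ideal.zero_eq_bot, ← nilradical_eq_zero A, nilradical_eq_sInf]
    refine le_sInf fun P (hP : P.IsPrime) => ?_
    haveI := hP
    have h := (IsLocalization.isPrime_iff_isPrime_disjoint (Submonoid.powers f) A P).mp hP
    rw [Ideal.map_le_iff_le_comap]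
    exact hfle _ h.1 fun hf => Set.disjoint_left.mp h.2 (Submonoid.mem_powers f) hf
  haveI : (⊥ : Ideal A).IsPrime := hbot ▸ hprime
  exact ⟨f, hfp, IsDomain.of_bot_isPrime A⟩

end GrothLib.LocIntegral
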